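import Groth.Prelude.Def_RDer

/-!
# Naturality properties of the comparison `H^i (Ψ K) ⟶ Ψ (H^i K)` for a left exact functor
(helper23)
-/

set_option autoImplicit false
set_option backward.isDefEq.respectTransparency false

universe v₁ v₂ v₃ u₁ u₂ u₃

open CategoryTheory CategoryTheory.Limits HomologicalComplex

namespace Groth.Agent.Lib.Helper23.BCQ

open RDer

variable {B : Type u₁} [Category.{v₁} B] [Abelian B] {C : Type u₂} [Category.{v₂} C] [Abelian C]
  {ι' : Type*} {c : ComplexShape ι'}

section NatK

variable (Ψ : B ⥤ C) [Ψ.Additive] [PreservesFiniteLimits Ψ]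
  {K K' : HomologicalComplex B c} (φ : K ⟶ K') (i : ι')

/-- naturality of the comparison of cycles in the complex -/
@[reassoc]
lemma cyclesMap_cyclesComparison :
    cyclesMap ((Ψ.mapHomologicalComplex c).map φ) i ≫ cyclesComparison Ψ K' i =
      cyclesComparison Ψ K i ≫ Ψ.map (cyclesMap φ i) := by
  have : Mono (Ψ.map (K'.iCycles i)) := inferInstance
  rw [← cancel_mono (Ψ.map (K'.iCycles i)), Category.assoc, cyclesComparison_i, cyclesMap_i,
    Category.assoc, ← Ψ.map_comp, cyclesMap_i, Ψ.map_comp, cyclesComparison_i_assoc]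
  rfl

/-- naturality of the comparison of homology in the complex -/
@[reassoc]
lemma homologyMap_homologyComparison :
    homologyMap ((Ψ.mapHomologicalComplex c).map φ) i ≫ homologyComparison Ψ K' i =
      homologyComparison Ψ K i ≫ Ψ.map (homologyMap φ i) := by
  rw [← cancel_epi (((Ψ.mapHomologicalComplex c).obj K).homologyπ i),
    homologyπ_naturality_assoc, homologyπ_homologyComparison,
    homologyπ_homologyComparison_assoc, cyclesMap_cyclesComparison_assoc, ← Ψ.map_comp,
    ← Ψ.map_comp, homologyπ_naturality]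

end NatK

section NatΨ

variable {Ψ Ψ' : B ⥤ C} [Ψ.Additive] [PreservesFiniteLimits Ψ] [Ψ'.Additive]
  [PreservesFiniteLimits Ψ'] (α : Ψ ⟶ Ψ') (K : HomologicalComplex B c) (i : ι')

/-- naturality of the comparison of cycles in the functor -/
@[reassoc]
lemma cyclesMap_app_cyclesComparison :
    cyclesMap ((NatTrans.mapHomologicalComplex α c).app K) i ≫ cyclesComparison Ψ' K i =
      cyclesComparison Ψ K i ≫ α.app (K.cycles i) := by
  rw [← cancel_mono (Ψ'.map (K.iCycles i)), Category.assoc, cyclesComparison_i, cyclesMap_i,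
    Category.assoc, ← α.naturality, cyclesComparison_i_assoc]
  rfl

/-- naturality of the comparison of homology in the functor -/
@[reassoc]
lemma homologyMap_app_homologyComparison :
    homologyMap ((NatTrans.mapHomologicalComplex α c).app K) i ≫ homologyComparison Ψ' K i =
      homologyComparison Ψ K i ≫ α.app (K.homology i) := by
  rw [← cancel_epi (((Ψ.mapHomologicalComplex c).obj K).homologyπ i),
    homologyπ_naturality_assoc, homologyπ_homologyComparison,
    homologyπ_homologyComparison_assoc, cyclesMap_app_cyclesComparison_assoc, α.naturality]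

end NatΨ

section Comp

attribute [local instance] comp_preservesFiniteLimits

variable {D : Type u₃} [Category.{v₃} D] [Abelian D]
  (Ψ₁ : B ⥤ C) [Ψ₁.Additive] [PreservesFiniteLimits Ψ₁]
  (Ψ₂ : C ⥤ D) [Ψ₂.Additive] [PreservesFiniteLimits Ψ₂]
  (K : HomologicalComplex B c) (i : ι')

/-- the comparison of cycles for a composite functor -/
lemma cyclesComparison_comp :
    cyclesComparison (Ψ₁ ⋙ Ψ₂) K i =
      cyclesComparison Ψ₂ ((Ψ₁.mapHomologicalComplex c).obj K) i ≫
        Ψ₂.map (cyclesComparison Ψ₁ K i) := by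
  rw [← cancel_mono ((Ψ₁ ⋙ Ψ₂).map (K.iCycles i)), cyclesComparison_i, Category.assoc]
  change _ = _ ≫ Ψ₂.map _ ≫ Ψ₂.map (Ψ₁.map _)
  rw [← Ψ₂.map_comp, cyclesComparison_i, cyclesComparison_i]
  rfl

/-- the comparison of homology for a composite functor -/
lemma homologyComparison_comp :
    homologyComparison (Ψ₁ ⋙ Ψ₂) K i =
      homologyComparison Ψ₂ ((Ψ₁.mapHomologicalComplex c).obj K) i ≫
        Ψ₂.map (homologyComparison Ψ₁ K i) := by
  rw [← cancel_epi ((((Ψ₁ ⋙ Ψ₂).mapHomologicalComplex c).obj K).homologyπ i),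
    homologyπ_homologyComparison, cyclesComparison_comp]
  change _ = ((Ψ₂.mapHomologicalComplex c).obj ((Ψ₁.mapHomologicalComplex c).obj K)).homologyπ i ≫ _
  rw [homologyπ_homologyComparison_assoc, Category.assoc, ← Ψ₂.map_comp,
    homologyπ_homologyComparison, Ψ₂.map_comp]
  rfl

end Comp

end Groth.Agent.Lib.Helper23.BCQ
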