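import Groth.Agent.Lib.Helper23.BCQ.Paste
import Groth.Agent.Lib.Helper23.BC0.Paste2
import Groth.Prelude.Def_EtBC2

/-!
# Pasting of the base change morphisms `bcQ` in degree `q` for abelian étale sheaves (helper23)
-/

set_option autoImplicit false
set_option backward.isDefEq.respectTransparency false
set_option backward.isDefEq.respectTransparency.types false

universe u

open CategoryTheory CategoryTheory.Limits Opposite AlgebraicGeometry

namespace Groth.Agent.Lib.Helper23.BCQ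

open Groth.Agent.Lib.Helper23.BC0

/-- the value category -/
abbrev AbC := AddCommGrpCat.{u + 1}

section Square

variable {X S X' S' : Scheme.{u}} (f : X ⟶ S) (g : S' ⟶ S) (f' : X' ⟶ S') (g' : X' ⟶ X)
  (w : g' ≫ f = f' ≫ g) [PreservesFiniteLimits (EtCoh.pull g')] (q : ℕ) (F : EtCoh.Ab X)

/-- the prelude's adjoint base change morphism in terms of `β` -/
lemma bcQAdj_eq :
    EtBC.bcQAdj f g f' g' w q F =
      (EtCoh.Rpush f q).map ((EtCoh.pullPushAdj g').unit.app F) ≫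
        β (EtCoh.push f) (EtCoh.push f') (EtCoh.push g') (EtCoh.push g)
          (sq AbC.{u} f g f' g' w) q ((EtCoh.pull g').obj F) := rfl

lemma unit_bcQ :
    (EtCoh.pullPushAdj g).unit.app ((EtCoh.Rpush f q).obj F) ≫
        (EtCoh.push g).map (EtBC.bcQ f g f' g' w q F) =
      EtBC.bcQAdj f g f' g' w q F := by
  have h := ((EtCoh.pullPushAdj g).homEquiv _ _).apply_symm_apply (EtBC.bcQAdj f g f' g' w q F)
  rw [Adjunction.homEquiv_unit] at h
  exact h

end Square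

section Pasting

variable {X S X' S' X'' S'' : Scheme.{u}} (f : X ⟶ S) (g : S' ⟶ S) (f' : X' ⟶ S') (g' : X' ⟶ X)
  (w₁ : g' ≫ f = f' ≫ g) (k : S'' ⟶ S') (f'' : X'' ⟶ S'') (k' : X'' ⟶ X')
  (w₂ : k' ≫ f' = f'' ≫ k) (w₁₂ : (k' ≫ g') ≫ f = f'' ≫ (k ≫ g))
  [PreservesFiniteLimits (EtCoh.pull g')] [PreservesFiniteLimits (EtCoh.pull k')]
  [PreservesFiniteLimits (EtCoh.pull (k' ≫ g'))] (q : ℕ) (F : EtCoh.Ab X)

/-- pasting of the adjoint base change morphisms in degree `q` -/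
theorem bcQAdj_paste :
    EtBC.bcQAdj f (k ≫ g) f'' (k' ≫ g') w₁₂ q F ≫
        (EtCoh.push (k ≫ g)).map ((EtCoh.Rpush f'' q).map ((pullComp AbC.{u} k' g').hom.app F)) =
      EtBC.bcQAdj f g f' g' w₁ q F ≫
        (EtCoh.push g).map (EtBC.bcQAdj f' k f'' k' w₂ q ((EtCoh.pull g').obj F)) ≫
        (pushComp AbC.{u} g k).hom.app _ := by
  have hu := unit_pullComp AbC.{u} k' g' F
  have hnat := β_naturality (Φ := EtCoh.push f) (Φ' := EtCoh.push f'')
    (G' := EtCoh.push (k' ≫ g')) (G := EtCoh.push (k ≫ g))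
    (sq AbC.{u} f (k ≫ g) f'' (k' ≫ g') w₁₂) q ((pullComp AbC.{u} k' g').hom.app F)
  have hp := β_paste (Φ := EtCoh.push f) (Φ' := EtCoh.push f') (Φ'' := EtCoh.push f'')
    (G'₁ := EtCoh.push g') (G'₂ := EtCoh.push k') (G'₁₂ := EtCoh.push (k' ≫ g'))
    (G₁ := EtCoh.push g) (G₂ := EtCoh.push k) (G₁₂ := EtCoh.push (k ≫ g))
    (sq AbC.{u} f g f' g' w₁) (sq AbC.{u} f' k f'' k' w₂) (sq AbC.{u} f (k ≫ g) f'' (k' ≫ g') w₁₂)
    (pushComp AbC.{u} g' k') (pushComp AbC.{u} g k)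
    (fun N => coherence_sq AbC.{u} f g f' g' w₁ k f'' k' w₂ w₁₂ N) q
    ((EtCoh.pullPushAdj g').unit.app F)
    ((EtCoh.pullPushAdj k').unit.app ((EtCoh.pull g').obj F))
  rw [bcQAdj_eq, bcQAdj_eq, bcQAdj_eq, Category.assoc, hnat, ← Category.assoc,
    ← Functor.map_comp]
  erw [hu]
  rw [Category.assoc]
  exact hp

/-- pasting of the base change morphisms in degree `q` -/
theorem bcQ_paste :
    EtBC.bcQ f (k ≫ g) f'' (k' ≫ g') w₁₂ q F ≫
        (EtCoh.Rpush f'' q).map ((pullComp AbC.{u} k' g').hom.app F) =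
      (pullComp AbC.{u} k g).hom.app ((EtCoh.Rpush f q).obj F) ≫
        (EtCoh.pull k).map (EtBC.bcQ f g f' g' w₁ q F) ≫
        EtBC.bcQ f' k f'' k' w₂ q ((EtCoh.pull g').obj F) := by
  apply ((EtCoh.pullPushAdj (k ≫ g)).homEquiv _ _).injective
  rw [Adjunction.homEquiv_unit, Adjunction.homEquiv_unit]
  have n1 := (pushComp AbC.{u} g k).hom.naturality
    ((EtCoh.pull k).map (EtBC.bcQ f g f' g' w₁ q F) ≫
      EtBC.bcQ f' k f'' k' w₂ q ((EtCoh.pull g').obj F))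
  have n2 := (EtCoh.pullPushAdj k).unit.naturality (EtBC.bcQ f g f' g' w₁ q F)
  have u1 := unit_bcQ f g f' g' w₁ q F
  have u2 := unit_bcQ f' k f'' k' w₂ q ((EtCoh.pull g').obj F)
  have hp := unit_pullComp AbC.{u} k g ((EtCoh.Rpush f q).obj F)
  simp only [Functor.comp_obj, Functor.comp_map, Functor.id_obj, Functor.id_map] at n1 n2
  have hL : (EtCoh.pullPushAdj (k ≫ g)).unit.app ((EtCoh.Rpush f q).obj F) ≫
      (EtCoh.push (k ≫ g)).map (EtBC.bcQ f (k ≫ g) f'' (k' ≫ g') w₁₂ q F ≫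
        (EtCoh.Rpush f'' q).map ((pullComp AbC.{u} k' g').hom.app F)) =
      EtBC.bcQAdj f g f' g' w₁ q F ≫
        (EtCoh.push g).map (EtBC.bcQAdj f' k f'' k' w₂ q ((EtCoh.pull g').obj F)) ≫
        (pushComp AbC.{u} g k).hom.app _ := by
    rw [Functor.map_comp, ← Category.assoc, unit_bcQ]
    exact bcQAdj_paste f g f' g' w₁ k f'' k' w₂ w₁₂ q F
  have hR : (EtCoh.pullPushAdj (k ≫ g)).unit.app ((EtCoh.Rpush f q).obj F) ≫
      (EtCoh.push (k ≫ g)).map ((pullComp AbC.{u} k g).hom.app ((EtCoh.Rpush f q).obj F) ≫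
        (EtCoh.pull k).map (EtBC.bcQ f g f' g' w₁ q F) ≫
        EtBC.bcQ f' k f'' k' w₂ q ((EtCoh.pull g').obj F)) =
      EtBC.bcQAdj f g f' g' w₁ q F ≫
        (EtCoh.push g).map (EtBC.bcQAdj f' k f'' k' w₂ q ((EtCoh.pull g').obj F)) ≫
        (pushComp AbC.{u} g k).hom.app _ := by
    rw [Functor.map_comp, ← Category.assoc]
    erw [hp]
    rw [Category.assoc, Category.assoc]
    erw [← n1]
    rw [← u1, ← u2]
    have n2' := congrArg (fun t => (EtCoh.push g).map t) n2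
    simp only [Functor.map_comp] at n2'
    simp only [Functor.map_comp, Category.assoc]
    rw [reassoc_of% n2']
  rw [hL, hR]

/-- if the two inner base change morphisms are isomorphisms, so is the outer one -/
theorem isIso_bcQ_of_paste (h1 : IsIso (EtBC.bcQ f g f' g' w₁ q F))
    (h2 : IsIso (EtBC.bcQ f' k f'' k' w₂ q ((EtCoh.pull g').obj F))) :
    IsIso (EtBC.bcQ f (k ≫ g) f'' (k' ≫ g') w₁₂ q F) := by
  have h := bcQ_paste f g f' g' w₁ k f'' k' w₂ w₁₂ q F
  have : IsIso (EtBC.bcQ f (k ≫ g) f'' (k' ≫ g') w₁₂ q F ≫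
      (EtCoh.Rpush f'' q).map ((pullComp AbC.{u} k' g').hom.app F)) := by
    rw [h]
    infer_instance
  exact IsIso.of_isIso_comp_right _
    ((EtCoh.Rpush f'' q).map ((pullComp AbC.{u} k' g').hom.app F))

end Pasting

end Groth.Agent.Lib.Helper23.BCQ
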