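import Groth.Agent.Lib.Helper23.BCQ.Exact
import Groth.Agent.Lib.Helper23.BCQ.Concrete
import Groth.Agent.Lib.Helper23.BC0.Etale
import Groth.Agent.Lib.Helper23.HpullComp
import Groth.Agent.S0648

/-!
# Étale base change for the base change morphisms `bcQ` in degree `q` (helper23)
-/

set_option autoImplicit false
set_option backward.isDefEq.respectTransparency false
set_option backward.isDefEq.respectTransparency.types false

universe u

open CategoryTheory CategoryTheory.Limits Opposite AlgebraicGeometry

namespace Groth.Agent.Lib.Helper23.BCQ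

open Groth.Agent.Lib.Helper23.BC0 Groth.Agent.Lib.Helper23 Groth.Agent.Lib.Helper23.HpullComp

/-- inverse image along an étale morphism preserves injective abelian sheaves -/
lemma pull_preservesInjectiveObjects_of_etale {U X : Scheme.{u}} (j : U ⟶ X) [Etale j] :
    (EtCoh.pull j).PreservesInjectiveObjects where
  injective_obj {I} hI := by
    have : PreservesFiniteLimits (EtShriek.extZero j) := Groth.Agent.S0648.result j
    have : Injective ((EtShriek.restrAlong j).obj I) :=
      (EtShriek.extZeroAdj j).map_injective I hI
    exact Injective.of_iso ((EtRestr.pullIsoRestr j).app I).symm inferInstance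

variable {X S X' S' : Scheme.{u}} (f : X ⟶ S) (g : S' ⟶ S) (f' : X' ⟶ S') (g' : X' ⟶ X)

/-- **étale base change in degree `q`** -/
theorem isIso_bcQ_of_etale [Etale g] (c : IsPullback g' f' f g) (q : ℕ) (F : EtCoh.Ab X) :
    IsIso (EtBC.bcQ f g f' g' c.w q F) := by
  have : Etale g' := MorphismProperty.of_isPullback (P := @Etale) c.flip inferInstance
  have := pull_preservesInjectiveObjects_of_etale g'
  have h0 : ∀ M : EtCoh.Ab X, IsIso (((EtCoh.pullPushAdj g).homEquiv _ _).symm
      ((EtCoh.push f).map ((EtCoh.pullPushAdj g').unit.app M) ≫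
        (sq AbC.{u} f g f' g' c.w).hom.app ((EtCoh.pull g').obj M))) :=
    fun M => isIso_bc0_of_etale AbC.{u} f g f' g' c M
  exact isIso_transpose (Φ := EtCoh.push f) (Φ' := EtCoh.push f') (G' := EtCoh.push g')
    (G := EtCoh.push g) (sq AbC.{u} f g f' g' c.w) (EtCoh.pullPushAdj g') (EtCoh.pullPushAdj g)
    q F h0

end Groth.Agent.Lib.Helper23.BCQ
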