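import Groth.Agent.Lib.Helper23.BCQ.KeyLemma
import Groth.Agent.Lib.Helper6.HomologyCmp

/-!
# The degree-`q` base change morphism when the inverse images are exact and preserve injectives
(abstract form; helper23)

If the left adjoints `L ⊣ G`, `L' ⊣ G'` are exact, `L'` preserves injectives and the degree-zero
base change morphism `L Φ X ⟶ Φ' L' X` is an isomorphism for every `X`, then the degree-`q` base
change morphism `L (R^q Φ F) ⟶ R^q Φ' (L' F)` is an isomorphism.
-/

set_option autoImplicit false
set_option backward.isDefEq.respectTransparency false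

universe v u

open CategoryTheory CategoryTheory.Limits HomologicalComplex

namespace Groth.Agent.Lib.Helper23.BCQ

open RDer

section CounitLemma

variable {B : Type u} [Category.{v} B] [Abelian B] {ι' : Type*} {c : ComplexShape ι'}
  (Ψ : B ⥤ B) [Ψ.Additive] [PreservesFiniteLimits Ψ] (α : Ψ ⟶ 𝟭 B)
  (K : HomologicalComplex B c) (αK : (Ψ.mapHomologicalComplex c).obj K ⟶ K)
  (hαK : ∀ n, αK.f n = α.app (K.X n)) (i : ι')

include hαK in
lemma cyclesMap_eq_of_toId :
    cyclesMap αK i = cyclesComparison Ψ K i ≫ α.app (K.cycles i) := by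
  rw [← cancel_mono (K.iCycles i), cyclesMap_i, hαK, Category.assoc]
  have n := α.naturality (K.iCycles i)
  simp only [Functor.id_obj, Functor.id_map] at n
  rw [← n, cyclesComparison_i_assoc]

include hαK in
/-- the map induced on homology by a termwise natural transformation to the identity -/
lemma homologyMap_eq_of_toId :
    homologyMap αK i = homologyComparison Ψ K i ≫ α.app (K.homology i) := by
  rw [← cancel_epi (((Ψ.mapHomologicalComplex c).obj K).homologyπ i), homologyπ_naturality,
    homologyπ_homologyComparison_assoc, cyclesMap_eq_of_toId Ψ α K αK hαK i, Category.assoc]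
  have n := α.naturality (K.homologyπ i)
  simp only [Functor.id_obj, Functor.id_map] at n
  rw [n]

end CounitLemma

section ExactIso

variable {B C : Type u} [Category.{v} B] [Category.{v} C] [Abelian B] [Abelian C]
  (L : B ⥤ C) [L.Additive] [PreservesFiniteLimits L] [PreservesFiniteColimits L]
  (K : CochainComplex B ℕ)

/-- for an exact functor the comparison `H^i (L K) ⟶ L (H^i K)` is an isomorphism -/
theorem isIso_homologyComparison_of_exact (i : ℕ) : IsIso (homologyComparison L K i) := by
  apply Groth.Agent.Lib.Helper6.HomologyCmp.isIso_homologyComparison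
  · cases i with
    | zero =>
      have hz0 : IsZero (L.obj (Groth.Agent.Lib.Helper6.HomologyCmp.bd K 0)) :=
        L.map_isZero (Groth.Agent.Lib.Helper6.HomologyCmp.isZero_bd_zero K)
      exact ⟨fun g h _ => hz0.eq_of_src g h⟩
    | succ m =>
      have hp : (ComplexShape.up ℕ).prev (m + 1) = m := by simp
      rw [hp]
      have := Groth.Agent.Lib.Helper6.HomologyCmp.epi_toBd K m
      infer_instance
  · infer_instance

end ExactIso

section MapInjRes

variable {𝒜 𝒜' : Type u} [Category.{v} 𝒜] [Category.{v} 𝒜'] [Abelian 𝒜] [Abelian 𝒜']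
  (L' : 𝒜 ⥤ 𝒜') [L'.Additive] [PreservesFiniteLimits L'] [PreservesFiniteColimits L']
  [L'.PreservesInjectiveObjects]

/-- an exact functor preserving injectives maps injective resolutions to injective resolutions -/
noncomputable def mapInjRes {F : 𝒜} (I : InjectiveResolution F) :
    InjectiveResolution (L'.obj F) where
  cocomplex := (L'.mapHomologicalComplex _).obj I.cocomplex
  injective n := L'.injective_obj _
  ι := mapAug L' I.ι
  quasiIso := by
    dsimp only [mapAug]
    infer_instance

lemma mapInjRes_ι_f_zero {F : 𝒜} (I : InjectiveResolution F) :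
    (mapInjRes L' I).ι.f 0 = L'.map (I.ι.f 0) := by
  simp [mapInjRes, mapAug]

end MapInjRes

section Transpose

variable {B C : Type u} [Category.{v} B] [Category.{v} C] [Abelian B] [Abelian C]
  {L : B ⥤ C} {G : C ⥤ B} (adj : L ⊣ G) [L.Additive] [G.Additive]
  [PreservesFiniteLimits L] [PreservesFiniteLimits G]
  {ι' : Type*} {c : ComplexShape ι'}

/-- the termwise counit -/
noncomputable def counitK (K : HomologicalComplex C c) :
    (L.mapHomologicalComplex c).obj ((G.mapHomologicalComplex c).obj K) ⟶ K where
  f n := adj.counit.app (K.X n)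
  comm' i j _ := by
    have := adj.counit.naturality (K.d i j)
    simp only [Functor.comp_obj, Functor.comp_map, Functor.id_obj, Functor.id_map] at this
    exact this.symm

attribute [local instance] comp_preservesFiniteLimits in
/-- the transpose of `H(m) ≫ hC_G(K)` is `H` of the termwise transpose of `m`, up to the
comparison for `L` -/
theorem transpose_homologyMap (D : HomologicalComplex B c) (K : HomologicalComplex C c)
    (m : D ⟶ (G.mapHomologicalComplex c).obj K) (i : ι') :
    homologyComparison L D i ≫ L.map (homologyMap m i ≫ homologyComparison G K i) ≫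
        adj.counit.app (K.homology i) =
      homologyMap ((L.mapHomologicalComplex c).map m ≫ counitK adj K) i := by
  have h1 := homologyMap_homologyComparison L m i
  have h2 := homologyComparison_comp G L K i
  have h3 := homologyMap_eq_of_toId (G ⋙ L) adj.counit K (counitK adj K) (fun _ => rfl) i
  rw [homologyMap_comp, h3, h2, L.map_comp]
  simp only [Category.assoc]
  rw [← reassoc_of% h1]

end Transpose

section Main

variable {𝒜 𝒜' ℬ ℬ' : Type u} [Category.{v} 𝒜] [Category.{v} 𝒜'] [Category.{v} ℬ] [Category.{v} ℬ']
  [Abelian 𝒜] [Abelian 𝒜'] [Abelian ℬ] [Abelian ℬ']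
  [HasInjectiveResolutions 𝒜] [HasInjectiveResolutions 𝒜']
  {Φ : 𝒜 ⥤ ℬ} [Φ.Additive] {Φ' : 𝒜' ⥤ ℬ'} [Φ'.Additive]
  {G' : 𝒜' ⥤ 𝒜} [G'.Additive] [G'.PreservesInjectiveObjects]
  {G : ℬ' ⥤ ℬ} [G.Additive] [PreservesFiniteLimits G]
  (e : G' ⋙ Φ ≅ Φ' ⋙ G)
  {L' : 𝒜 ⥤ 𝒜'} (adj' : L' ⊣ G') [L'.Additive] [PreservesFiniteLimits L']
  [PreservesFiniteColimits L'] [L'.PreservesInjectiveObjects]
  {L : ℬ ⥤ ℬ'} (adj : L ⊣ G) [L.Additive] [PreservesFiniteLimits L] [PreservesFiniteColimits L]

/-- the termwise unit -/
noncomputable def unitK {ι' : Type*} {c : ComplexShape ι'} (D : HomologicalComplex 𝒜 c) :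
    D ⟶ (G'.mapHomologicalComplex c).obj ((L'.mapHomologicalComplex c).obj D) where
  f n := adj'.unit.app (D.X n)
  comm' i j _ := by
    have := adj'.unit.naturality (D.d i j)
    simp only [Functor.comp_obj, Functor.comp_map, Functor.id_obj, Functor.id_map] at this
    exact this.symm

/-- **base change in degree `q` when the inverse images are exact and preserve injectives** -/
theorem isIso_transpose (q : ℕ) (F : 𝒜)
    (h0 : ∀ X : 𝒜, IsIso ((adj.homEquiv _ _).symm
      (Φ.map (adj'.unit.app X) ≫ e.hom.app (L'.obj X)))) :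
    IsIso ((adj.homEquiv _ _).symm
      ((Φ.rightDerived q).map (adj'.unit.app F) ≫ β Φ Φ' G' G e q (L'.obj F))) := by
  let I := injectiveResolution F
  let J := mapInjRes L' I
  let ũ : I.cocomplex ⟶ (G'.mapHomologicalComplex _).obj J.cocomplex := unitK adj' I.cocomplex
  have hũ : I.ι.f 0 ≫ ũ.f 0 = adj'.unit.app F ≫ G'.map (J.ι.f 0) := by
    have := adj'.unit.naturality (I.ι.f 0)
    simp only [Functor.comp_obj, Functor.comp_map, Functor.id_obj, Functor.id_map] at this
    rw [mapInjRes_ι_f_zero]
    exact this
  have hκ := map_β_eq_κ e q (adj'.unit.app F) I J ũ hũ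
  -- the cochain map computing the adjoint base change morphism
  let K : CochainComplex ℬ' ℕ := (Φ'.mapHomologicalComplex _).obj J.cocomplex
  let m : (Φ.mapHomologicalComplex _).obj I.cocomplex ⟶ (G.mapHomologicalComplex _).obj K :=
    (Φ.mapHomologicalComplex _).map ũ ≫
      (NatTrans.mapHomologicalComplex e.hom _).app J.cocomplex
  have hκ' : κ e q I J ũ = (I.isoRightDerivedObj Φ q).hom ≫
      (homologyMap m q ≫ homologyComparison G K q) ≫
        G.map ((J.isoRightDerivedObj Φ' q).inv) := by
    simp only [κ, m, homologyMap_comp, Category.assoc]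
    rfl
  -- its termwise transpose is an isomorphism
  let m' : (L.mapHomologicalComplex _).obj ((Φ.mapHomologicalComplex _).obj I.cocomplex) ⟶ K :=
    (L.mapHomologicalComplex _).map m ≫ counitK adj K
  have hm' : ∀ n, IsIso (m'.f n) := by
    intro n
    have h := h0 (I.cocomplex.X n)
    rw [Adjunction.homEquiv_counit] at h
    exact h
  have : IsIso m' := HomologicalComplex.Hom.isIso_of_components m'
  have i1 : IsIso (homologyMap m' q) := inferInstance
  have i2 : IsIso (homologyComparison L ((Φ.mapHomologicalComplex _).obj I.cocomplex) q) :=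
    isIso_homologyComparison_of_exact L _ q
  have hT := transpose_homologyMap adj ((Φ.mapHomologicalComplex _).obj I.cocomplex) K m q
  -- assemble
  have key : (adj.homEquiv _ _).symm
      ((Φ.rightDerived q).map (adj'.unit.app F) ≫ β Φ Φ' G' G e q (L'.obj F)) =
      L.map ((I.isoRightDerivedObj Φ q).hom) ≫
        inv (homologyComparison L ((Φ.mapHomologicalComplex _).obj I.cocomplex) q) ≫
        homologyMap m' q ≫ (J.isoRightDerivedObj Φ' q).inv := by
    rw [hκ, hκ', Adjunction.homEquiv_counit, ← hT]
    have n := adj.counit.naturality ((J.isoRightDerivedObj Φ' q).inv)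
    simp only [Functor.comp_obj, Functor.comp_map, Functor.id_obj, Functor.id_map] at n
    simp only [Functor.map_comp, Category.assoc, IsIso.inv_hom_id_assoc]
    rw [n]
    rfl
  rw [key]
  infer_instance

end Main

end Groth.Agent.Lib.Helper23.BCQ
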