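import Mathlib.CategoryTheory.Abelian.Injective.Resolution
import Mathlib.Algebra.Homology.HomotopyCategory

/-!
# Uniqueness up to homotopy of maps from an injective resolution to a complex of injectives
(helper23)

Mathlib's `InjectiveResolution.descHomotopy` asks the target to be an injective resolution; only
the injectivity of its terms is used.  Here the target is any cochain complex with injective terms.
-/

set_option autoImplicit false

universe v u

open CategoryTheory CategoryTheory.Limits

namespace Groth.Agent.Lib.Helper23.BCQ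

variable {C : Type u} [Category.{v} C] [Abelian C]

section

variable {Y : C} (I : InjectiveResolution Y) (L : CochainComplex C ℕ) [∀ n, Injective (L.X n)]

/-- An auxiliary definition for `homotopyZero`. -/
noncomputable def hZeroZero (f : I.cocomplex ⟶ L) (comm : I.ι ≫ f = 0) :
    I.cocomplex.X 1 ⟶ L.X 0 :=
  I.exact₀.descToInjective (f.f 0) (congr_fun (congr_arg HomologicalComplex.Hom.f comm) 0)

@[reassoc (attr := simp)]
lemma comp_hZeroZero (f : I.cocomplex ⟶ L) (comm : I.ι ≫ f = 0) :
    I.cocomplex.d 0 1 ≫ hZeroZero I L f comm = f.f 0 :=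
  I.exact₀.comp_descToInjective _ _

/-- An auxiliary definition for `homotopyZero`. -/
noncomputable def hZeroOne (f : I.cocomplex ⟶ L) (comm : I.ι ≫ f = 0) :
    I.cocomplex.X 2 ⟶ L.X 1 :=
  (I.exact_succ 0).descToInjective (f.f 1 - hZeroZero I L f comm ≫ L.d 0 1)
    (by rw [Preadditive.comp_sub, comp_hZeroZero_assoc I L f comm,
          HomologicalComplex.Hom.comm, sub_self])

@[reassoc (attr := simp)]
lemma comp_hZeroOne (f : I.cocomplex ⟶ L) (comm : I.ι ≫ f = 0) :
    I.cocomplex.d 1 2 ≫ hZeroOne I L f comm = f.f 1 - hZeroZero I L f comm ≫ L.d 0 1 :=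
  (I.exact_succ 0).comp_descToInjective _ _

/-- An auxiliary definition for `homotopyZero`. -/
noncomputable def hZeroSucc (f : I.cocomplex ⟶ L) (n : ℕ) (g : I.cocomplex.X (n + 1) ⟶ L.X n)
    (g' : I.cocomplex.X (n + 2) ⟶ L.X (n + 1))
    (w : f.f (n + 1) = I.cocomplex.d (n + 1) (n + 2) ≫ g' + g ≫ L.d n (n + 1)) :
    I.cocomplex.X (n + 3) ⟶ L.X (n + 2) :=
  (I.exact_succ (n + 1)).descToInjective (f.f (n + 2) - g' ≫ L.d _ _) (by
      dsimp
      rw [Preadditive.comp_sub, ← HomologicalComplex.Hom.comm, w, Preadditive.add_comp,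
        Category.assoc, Category.assoc, HomologicalComplex.d_comp_d, comp_zero,
        add_zero, sub_self])

@[reassoc (attr := simp)]
lemma comp_hZeroSucc (f : I.cocomplex ⟶ L) (n : ℕ) (g : I.cocomplex.X (n + 1) ⟶ L.X n)
    (g' : I.cocomplex.X (n + 2) ⟶ L.X (n + 1))
    (w : f.f (n + 1) = I.cocomplex.d (n + 1) (n + 2) ≫ g' + g ≫ L.d n (n + 1)) :
    I.cocomplex.d (n + 2) (n + 3) ≫ hZeroSucc I L f n g g' w = f.f (n + 2) - g' ≫ L.d _ _ :=
  (I.exact_succ (n + 1)).comp_descToInjective _ _

/-- A cochain map from an injective resolution to a complex of injectives which vanishes on the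
augmentation is homotopic to zero. -/
noncomputable def homotopyZero (f : I.cocomplex ⟶ L) (comm : I.ι ≫ f = 0) : Homotopy f 0 :=
  Homotopy.mkCoinductive _ (hZeroZero I L f comm) (by simp)
    (hZeroOne I L f comm) (by simp) (fun n ⟨g, g', w⟩ =>
    ⟨hZeroSucc I L f n g g' (by simp only [w, add_comm]), by simp⟩)

/-- Two cochain maps from an injective resolution to a complex of injectives agreeing on the
augmentation are homotopic. -/
noncomputable def homotopyOfEq (g h : I.cocomplex ⟶ L) (w : I.ι ≫ g = I.ι ≫ h) : Homotopy g h :=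
  Homotopy.equivSubZero.invFun (homotopyZero I L _ (by simp [w]))

end

section

variable {D : Type*} [Category* D] [Abelian D] (Φ : C ⥤ D) [Φ.Additive]
  {Y : C} (I : InjectiveResolution Y) (L : CochainComplex C ℕ) [∀ n, Injective (L.X n)]

/-- the maps induced on the cohomology of `Φ` by two cochain maps agreeing in degree zero on the
augmentation coincide -/
lemma homologyMap_map_eq (g h : I.cocomplex ⟶ L) (w : I.ι.f 0 ≫ g.f 0 = I.ι.f 0 ≫ h.f 0) (q : ℕ) :
    HomologicalComplex.homologyMap ((Φ.mapHomologicalComplex _).map g) q =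
      HomologicalComplex.homologyMap ((Φ.mapHomologicalComplex _).map h) q := by
  have w' : I.ι ≫ g = I.ι ≫ h := by
    apply HomologicalComplex.from_single_hom_ext
    rw [HomologicalComplex.comp_f, HomologicalComplex.comp_f]
    exact w
  exact (Φ.mapHomotopy (homotopyOfEq I L g h w')).homologyMap_eq q

end

end Groth.Agent.Lib.Helper23.BCQ
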