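import Groth.Agent.Lib.Helper23.BCQ.Homotopy
import Groth.Agent.Lib.Helper23.BCQ.Comparison

/-!
# A cochain-level description of the (adjoint) base change morphism in degree `q` (helper23)

Abstract setting: additive functors `Φ : 𝒜 ⥤ ℬ`, `Φ' : 𝒜' ⥤ ℬ'`, `G' : 𝒜' ⥤ 𝒜` (preserving
injectives), `G : ℬ' ⥤ ℬ` (left exact) and an isomorphism `e : G' ⋙ Φ ≅ Φ' ⋙ G`.
`β q M : R^q Φ (G' M) ⟶ G (R^q Φ' M)` is the composite of the two edge maps and of `R^q e`.
The key lemma computes `R^q Φ (u) ≫ β q M` for `u : F ⟶ G' M` from ANY injective resolutions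
`I` of `F`, `J` of `M` and ANY cochain map `I ⟶ G' J` lying over `u`.
-/

set_option autoImplicit false
set_option backward.isDefEq.respectTransparency false

universe v u

open CategoryTheory CategoryTheory.Limits HomologicalComplex

namespace Groth.Agent.Lib.Helper23.BCQ

open RDer

variable {𝒜 𝒜' ℬ ℬ' : Type u} [Category.{v} 𝒜] [Category.{v} 𝒜'] [Category.{v} ℬ] [Category.{v} ℬ']
  [Abelian 𝒜] [Abelian 𝒜'] [Abelian ℬ] [Abelian ℬ']
  [HasInjectiveResolutions 𝒜] [HasInjectiveResolutions 𝒜']
  (Φ : 𝒜 ⥤ ℬ) [Φ.Additive] (Φ' : 𝒜' ⥤ ℬ') [Φ'.Additive]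
  (G' : 𝒜' ⥤ 𝒜) [G'.Additive] [G'.PreservesInjectiveObjects]
  (G : ℬ' ⥤ ℬ) [G.Additive] [PreservesFiniteLimits G]
  (e : G' ⋙ Φ ≅ Φ' ⋙ G)

/-- the composite of the first edge map, of `R^q e` and of the second edge map -/
noncomputable def β (q : ℕ) (M : 𝒜') :
    (Φ.rightDerived q).obj (G'.obj M) ⟶ G.obj ((Φ'.rightDerived q).obj M) :=
  edgeIn G' Φ q M ≫ (rightDerivedIso e q).hom.app M ≫ edgeOut Φ' G q M

variable {Φ Φ' G' G}

/-- the cochain-level composite -/
noncomputable def κ (q : ℕ) {F : 𝒜} {M : 𝒜'} (I : InjectiveResolution F)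
    (J : InjectiveResolution M)
    (ũ : I.cocomplex ⟶ (G'.mapHomologicalComplex _).obj J.cocomplex) :
    (Φ.rightDerived q).obj F ⟶ G.obj ((Φ'.rightDerived q).obj M) :=
  (I.isoRightDerivedObj Φ q).hom ≫ homologyMap ((Φ.mapHomologicalComplex _).map ũ) q ≫
    homologyMap ((NatTrans.mapHomologicalComplex e.hom _).app J.cocomplex) q ≫
    homologyComparison G ((Φ'.mapHomologicalComplex _).obj J.cocomplex) q ≫
    G.map ((J.isoRightDerivedObj Φ' q).inv)

/-- the composite `β` in terms of the chosen resolutions -/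
lemma β_eq (q : ℕ) (M : 𝒜') :
    β Φ Φ' G' G e q M =
      ((injectiveResolution (G'.obj M)).isoRightDerivedObj Φ q).hom ≫
        homologyMap ((Φ.mapHomologicalComplex _).map
          (descToInjectives (𝟙 (G'.obj M)) (injectiveResolution (G'.obj M)).cocomplex
            (injectiveResolution (G'.obj M)).ι
            ((G'.mapHomologicalComplex _).obj (injectiveResolution M).cocomplex)
            (mapAug G' (injectiveResolution M).ι))) q ≫
        homologyMap ((NatTrans.mapHomologicalComplex e.hom _).app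
          (injectiveResolution M).cocomplex) q ≫
        homologyComparison G ((Φ'.mapHomologicalComplex _).obj
          (injectiveResolution M).cocomplex) q ≫
        G.map (((injectiveResolution M).isoRightDerivedObj Φ' q).inv) := by
  have h : (rightDerivedIso e q).hom.app M = _ :=
    InjectiveResolution.rightDerived_app_eq e.hom (injectiveResolution M) q
  rw [β, h]
  dsimp only [edgeIn, edgeOut]
  simp only [Category.assoc, Iso.inv_hom_id_assoc]
  rfl

/-- **Key lemma**: `R^q Φ (u) ≫ β` computed from arbitrary resolutions and an arbitrary lift. -/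
theorem map_β_eq_κ (q : ℕ) {F : 𝒜} {M : 𝒜'} (u : F ⟶ G'.obj M) (I : InjectiveResolution F)
    (J : InjectiveResolution M)
    (ũ : I.cocomplex ⟶ (G'.mapHomologicalComplex _).obj J.cocomplex)
    (hũ : I.ι.f 0 ≫ ũ.f 0 = u ≫ G'.map (J.ι.f 0)) :
    (Φ.rightDerived q).map u ≫ β Φ Φ' G' G e q M = κ e q I J ũ := by
  -- the chosen resolutions
  let K₀ := injectiveResolution (G'.obj M)
  let J₀ := injectiveResolution M
  let a : I.cocomplex ⟶ K₀.cocomplex := InjectiveResolution.desc u K₀ I
  let d₀ : K₀.cocomplex ⟶ (G'.mapHomologicalComplex _).obj J₀.cocomplex :=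
    descToInjectives (𝟙 (G'.obj M)) K₀.cocomplex K₀.ι
      ((G'.mapHomologicalComplex _).obj J₀.cocomplex) (mapAug G' J₀.ι)
  let j : J₀.cocomplex ⟶ J.cocomplex := InjectiveResolution.desc (𝟙 M) J J₀
  have ha : I.ι.f 0 ≫ a.f 0 = u ≫ K₀.ι.f 0 := InjectiveResolution.desc_commutes_zero u K₀ I
  have hj : J₀.ι.f 0 ≫ j.f 0 = J.ι.f 0 := by
    have := InjectiveResolution.desc_commutes_zero (𝟙 M) J J₀
    rwa [Category.id_comp] at this
  have hd₀ : K₀.ι.f 0 ≫ d₀.f 0 = G'.map (J₀.ι.f 0) := by
    have := ι_descToInjectives_f_zero (𝟙 (G'.obj M)) K₀.cocomplex K₀.ι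
      ((G'.mapHomologicalComplex _).obj J₀.cocomplex) (mapAug G' J₀.ι)
    rw [Category.id_comp] at this
    rw [this]
    simp [mapAug]
  -- step 1: `R^q Φ (u)` through `a`
  have h1 : (Φ.rightDerived q).map u =
      (I.isoRightDerivedObj Φ q).hom ≫ homologyMap ((Φ.mapHomologicalComplex _).map a) q ≫
        (K₀.isoRightDerivedObj Φ q).inv := by
    have := InjectiveResolution.isoRightDerivedObj_hom_naturality u I K₀ a ha Φ q
    rw [← cancel_mono (K₀.isoRightDerivedObj Φ q).hom, this]
    simp only [Category.assoc, Iso.inv_hom_id, Category.comp_id]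
    rfl
  -- step 2: change of the resolution of `M`
  have h2 : (J₀.isoRightDerivedObj Φ' q).inv =
      homologyMap ((Φ'.mapHomologicalComplex _).map j) q ≫ (J.isoRightDerivedObj Φ' q).inv := by
    have := InjectiveResolution.isoRightDerivedObj_inv_naturality (𝟙 M) J₀ J j
      (by rw [hj, Category.id_comp]) Φ' q
    rw [CategoryTheory.Functor.map_id, Category.comp_id] at this
    exact this
  -- step 3: naturality of `e`
  have h3 : homologyMap ((NatTrans.mapHomologicalComplex e.hom _).app J₀.cocomplex) q ≫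
      homologyMap ((G.mapHomologicalComplex _).map ((Φ'.mapHomologicalComplex _).map j)) q =
      homologyMap ((Φ.mapHomologicalComplex _).map ((G'.mapHomologicalComplex _).map j)) q ≫
        homologyMap ((NatTrans.mapHomologicalComplex e.hom _).app J.cocomplex) q := by
    rw [← homologyMap_comp, ← homologyMap_comp]
    congr 1
    exact ((NatTrans.mapHomologicalComplex e.hom (ComplexShape.up ℕ)).naturality j).symm
  -- step 4: the two lifts are homotopic
  have h4 : homologyMap ((Φ.mapHomologicalComplex _).map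
      (a ≫ d₀ ≫ (G'.mapHomologicalComplex _).map j)) q =
      homologyMap ((Φ.mapHomologicalComplex _).map ũ) q := by
    apply homologyMap_map_eq Φ I
    rw [hũ, comp_f, comp_f, reassoc_of% ha, reassoc_of% hd₀,
      Functor.mapHomologicalComplex_map_f, ← G'.map_comp, hj]
  rw [β_eq, h1, κ, ← h4, h2]
  simp only [Functor.map_comp, Category.assoc, Iso.inv_hom_id_assoc, homologyMap_comp]
  rw [← homologyMap_homologyComparison_assoc, reassoc_of% h3]
  simp only [K₀, Iso.inv_hom_id_assoc]
  rfl

/-- a cochain map from an injective resolution of `F` to `G'` of an injective resolution of `M`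
lying over `u : F ⟶ G' M` -/
noncomputable def lift {F : 𝒜} {M : 𝒜'} (u : F ⟶ G'.obj M) (I : InjectiveResolution F)
    (J : InjectiveResolution M) : I.cocomplex ⟶ (G'.mapHomologicalComplex _).obj J.cocomplex :=
  descToInjectives u I.cocomplex I.ι ((G'.mapHomologicalComplex _).obj J.cocomplex)
    (mapAug G' J.ι)

lemma ι_lift {F : 𝒜} {M : 𝒜'} (u : F ⟶ G'.obj M) (I : InjectiveResolution F)
    (J : InjectiveResolution M) :
    I.ι.f 0 ≫ (lift u I J).f 0 = u ≫ G'.map (J.ι.f 0) := by
  rw [lift, ι_descToInjectives_f_zero]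
  simp [mapAug]

/-- `β` in terms of the chosen resolutions of `G' M` and `M`... in the form of the key lemma -/
lemma β_eq_κ (q : ℕ) (M : 𝒜') :
    β Φ Φ' G' G e q M =
      κ e q (injectiveResolution (G'.obj M)) (injectiveResolution M)
        (lift (𝟙 _) (injectiveResolution (G'.obj M)) (injectiveResolution M)) := by
  have h := map_β_eq_κ e q (𝟙 (G'.obj M)) (injectiveResolution (G'.obj M))
    (injectiveResolution M) (lift (𝟙 _) _ _) (ι_lift _ _ _)
  rw [CategoryTheory.Functor.map_id, Category.id_comp] at h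
  exact h

/-- compatibility of the cochain-level composite with a morphism `ν : M ⟶ M'` -/
lemma κ_comp_map (q : ℕ) {F : 𝒜} {M M' : 𝒜'} (I : InjectiveResolution F)
    (J : InjectiveResolution M) (J' : InjectiveResolution M')
    (ũ : I.cocomplex ⟶ (G'.mapHomologicalComplex _).obj J.cocomplex)
    (ν : M ⟶ M') (ν' : J.cocomplex ⟶ J'.cocomplex) (hν : J.ι.f 0 ≫ ν'.f 0 = ν ≫ J'.ι.f 0) :
    κ e q I J ũ ≫ G.map ((Φ'.rightDerived q).map ν) =
      κ e q I J' (ũ ≫ (G'.mapHomologicalComplex _).map ν') := by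
  have h2 := InjectiveResolution.isoRightDerivedObj_inv_naturality ν J J' ν' hν Φ' q
  have h3 : homologyMap ((NatTrans.mapHomologicalComplex e.hom _).app J.cocomplex) q ≫
      homologyMap ((G.mapHomologicalComplex _).map ((Φ'.mapHomologicalComplex _).map ν')) q =
      homologyMap ((Φ.mapHomologicalComplex _).map ((G'.mapHomologicalComplex _).map ν')) q ≫
        homologyMap ((NatTrans.mapHomologicalComplex e.hom _).app J'.cocomplex) q := by
    rw [← homologyMap_comp, ← homologyMap_comp]
    congr 1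
    exact ((NatTrans.mapHomologicalComplex e.hom (ComplexShape.up ℕ)).naturality ν').symm
  simp only [κ, Category.assoc, Functor.map_comp, homologyMap_comp]
  rw [← G.map_comp, h2, G.map_comp]
  change _ ≫ _ ≫ _ ≫ _ ≫ G.map (homologyMap ((Φ'.mapHomologicalComplex _).map ν') q) ≫ _ = _
  rw [← homologyMap_homologyComparison_assoc, reassoc_of% h3]

/-- naturality of `β` -/
lemma β_naturality (q : ℕ) {M M' : 𝒜'} (ν : M ⟶ M') :
    β Φ Φ' G' G e q M ≫ G.map ((Φ'.rightDerived q).map ν) =
      (Φ.rightDerived q).map (G'.map ν) ≫ β Φ Φ' G' G e q M' := by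
  let ν' := InjectiveResolution.desc ν (injectiveResolution M') (injectiveResolution M)
  have hν : (injectiveResolution M).ι.f 0 ≫ ν'.f 0 = ν ≫ (injectiveResolution M').ι.f 0 :=
    InjectiveResolution.desc_commutes_zero _ _ _
  rw [β_eq_κ, κ_comp_map e q _ _ _ _ ν ν' hν]
  symm
  apply map_β_eq_κ
  rw [comp_f, reassoc_of% (ι_lift (𝟙 (G'.obj M)) (injectiveResolution (G'.obj M))
    (injectiveResolution M)), Functor.mapHomologicalComplex_map_f,
    ← G'.map_comp, hν, G'.map_comp]

end Groth.Agent.Lib.Helper23.BCQ
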