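import Groth.Agent.Lib.Helper23.BCQ.EtaleBC
import Groth.Agent.Lib.Helper23.BC0.LocalAb

/-!
# The base change morphism in degree `q` is an isomorphism étale-locally on source and target
(helper23)
-/

set_option autoImplicit false
set_option backward.isDefEq.respectTransparency false
set_option backward.isDefEq.respectTransparency.types false

universe u

open CategoryTheory CategoryTheory.Limits Opposite AlgebraicGeometry

namespace Groth.Agent.Lib.Helper23.BCQ

open Groth.Agent.Lib.Helper23.BC0 Groth.Agent.Lib.Helper23 Groth.Agent.Lib.Helper23.HpullComp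

/-- transport of the base change morphism along equalities of the base change maps -/
lemma isIso_bcQ_congr {X S X' S' : Scheme.{u}} (f : X ⟶ S) (f' : X' ⟶ S')
    {g₁ g₂ : S' ⟶ S} {g₁' g₂' : X' ⟶ X} (hg : g₁ = g₂) (hg' : g₁' = g₂')
    (w₁ : g₁' ≫ f = f' ≫ g₁) (w₂ : g₂' ≫ f = f' ≫ g₂) (q : ℕ) (F : EtCoh.Ab X)
    (h : IsIso (EtBC.bcQ f g₁ f' g₁' w₁ q F)) : IsIso (EtBC.bcQ f g₂ f' g₂' w₂ q F) := by
  subst hg hg'
  exact h

variable {X S Y T U V Ti Yi : Scheme.{u}} (f : X ⟶ S) (g : T ⟶ S) (h : Y ⟶ X) (e : Y ⟶ T)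
  (c : IsPullback e h g f) (F : EtCoh.Ab T)
  (u : U ⟶ X) [Etale u] (v : V ⟶ S) [Etale v] (a : U ⟶ V) (ha : a ≫ v = u ≫ f)
  (gi : Ti ⟶ V) (ti : Ti ⟶ T) (cT : IsPullback ti gi g v)
  (hi : Yi ⟶ U) (ei : Yi ⟶ Ti) (cY : IsPullback ei hi gi a) (q : ℕ)

include c ha cT cY in
/-- if the degree-`q` base change morphism of the localised square is an isomorphism, then the
restriction of the degree-`q` base change morphism to `U` is an isomorphism -/
theorem isIso_pull_bcQ_of_local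
    (hloc : IsIso (EtBC.bcQ gi a hi ei cY.w q ((EtCoh.pull ti).obj F))) :
    IsIso ((EtCoh.pull u).map (EtBC.bcQ g f h e c.w q F)) := by
  have hcond : (ei ≫ ti) ≫ g = (hi ≫ u) ≫ f := by
    rw [Category.assoc, cT.w, ← Category.assoc, cY.w, Category.assoc, ha, Category.assoc]
  let α : Yi ⟶ Y := c.lift (ei ≫ ti) (hi ≫ u) hcond
  have hα1 : α ≫ e = ei ≫ ti := c.lift_fst _ _ _
  have hα2 : α ≫ h = hi ≫ u := c.lift_snd _ _ _
  have cB : IsPullback (ei ≫ ti) hi g (a ≫ v) := cY.paste_horiz cT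
  have cA' : IsPullback (α ≫ e) hi g (u ≫ f) := by
    rw [hα1, ← ha]
    exact cB
  have cA : IsPullback α hi h u := IsPullback.of_right cA' hα2 c
  -- the decomposition through `V`
  have i1 : IsIso (EtBC.bcQ g v gi ti cT.w q F) := isIso_bcQ_of_etale g v gi ti cT q F
  have i3 : IsIso (EtBC.bcQ g (a ≫ v) hi (ei ≫ ti) cB.w q F) :=
    isIso_bcQ_of_paste g v gi ti cT.w a hi ei cY.w cB.w q F i1 hloc
  -- transport to the other outer square
  have i4 : IsIso (EtBC.bcQ g (u ≫ f) hi (α ≫ e) cA'.w q F) :=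
    isIso_bcQ_congr g hi ha hα1.symm cB.w cA'.w q F i3
  -- the decomposition through `X`
  have pA := bcQ_paste g f h e c.w u hi α cA.w cA'.w q F
  have i5 : IsIso (EtBC.bcQ h u hi α cA.w q ((EtCoh.pull e).obj F)) :=
    isIso_bcQ_of_etale h u hi α cA q _
  have i6 : IsIso ((pullComp AbC.{u} u f).hom.app ((EtCoh.Rpush g q).obj F) ≫
      (EtCoh.pull u).map (EtBC.bcQ g f h e c.w q F) ≫
      EtBC.bcQ h u hi α cA.w q ((EtCoh.pull e).obj F)) := by
    rw [← pA]
    infer_instance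
  have i7 : IsIso ((EtCoh.pull u).map (EtBC.bcQ g f h e c.w q F) ≫
      EtBC.bcQ h u hi α cA.w q ((EtCoh.pull e).obj F)) :=
    IsIso.of_isIso_comp_left ((pullComp AbC.{u} u f).hom.app ((EtCoh.Rpush g q).obj F)) _
  exact IsIso.of_isIso_comp_right _ (EtBC.bcQ h u hi α cA.w q ((EtCoh.pull e).obj F))

end Groth.Agent.Lib.Helper23.BCQ
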