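import Groth.Agent.Lib.Helper23.BCQ.KeyLemma

/-!
# Pasting of the (adjoint) base change morphisms in degree `q`, abstract form (helper23)
-/

set_option autoImplicit false
set_option backward.isDefEq.respectTransparency false

universe v u

open CategoryTheory CategoryTheory.Limits HomologicalComplex

namespace Groth.Agent.Lib.Helper23.BCQ

open RDer

attribute [local instance] comp_preservesFiniteLimits

variable {𝒜 𝒜' 𝒜'' ℬ ℬ' ℬ'' : Type u} [Category.{v} 𝒜] [Category.{v} 𝒜'] [Category.{v} 𝒜'']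
  [Category.{v} ℬ] [Category.{v} ℬ'] [Category.{v} ℬ'']
  [Abelian 𝒜] [Abelian 𝒜'] [Abelian 𝒜''] [Abelian ℬ] [Abelian ℬ'] [Abelian ℬ'']
  [HasInjectiveResolutions 𝒜] [HasInjectiveResolutions 𝒜'] [HasInjectiveResolutions 𝒜'']
  {Φ : 𝒜 ⥤ ℬ} [Φ.Additive] {Φ' : 𝒜' ⥤ ℬ'} [Φ'.Additive] {Φ'' : 𝒜'' ⥤ ℬ''} [Φ''.Additive]
  {G'₁ : 𝒜' ⥤ 𝒜} [G'₁.Additive] [G'₁.PreservesInjectiveObjects]
  {G'₂ : 𝒜'' ⥤ 𝒜'} [G'₂.Additive] [G'₂.PreservesInjectiveObjects]
  {G'₁₂ : 𝒜'' ⥤ 𝒜} [G'₁₂.Additive] [G'₁₂.PreservesInjectiveObjects]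
  {G₁ : ℬ' ⥤ ℬ} [G₁.Additive] [PreservesFiniteLimits G₁]
  {G₂ : ℬ'' ⥤ ℬ'} [G₂.Additive] [PreservesFiniteLimits G₂]
  {G₁₂ : ℬ'' ⥤ ℬ} [G₁₂.Additive] [PreservesFiniteLimits G₁₂]
  (e₁ : G'₁ ⋙ Φ ≅ Φ' ⋙ G₁) (e₂ : G'₂ ⋙ Φ' ≅ Φ'' ⋙ G₂) (e₁₂ : G'₁₂ ⋙ Φ ≅ Φ'' ⋙ G₁₂)
  (γ' : G'₂ ⋙ G'₁ ≅ G'₁₂) (γ : G₂ ⋙ G₁ ≅ G₁₂)
  (hcoh : ∀ N : 𝒜'', Φ.map (γ'.hom.app N) ≫ e₁₂.hom.app N =
    e₁.hom.app (G'₂.obj N) ≫ G₁.map (e₂.hom.app N) ≫ γ.hom.app (Φ''.obj N))

include hcoh in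
/-- pasting at the cochain level -/
theorem κ_paste (q : ℕ) {F : 𝒜} {M₁ : 𝒜'} {M₂ : 𝒜''} (I : InjectiveResolution F)
    (J₁ : InjectiveResolution M₁) (J₂ : InjectiveResolution M₂)
    (ũ₁ : I.cocomplex ⟶ (G'₁.mapHomologicalComplex _).obj J₁.cocomplex)
    (ũ₂ : J₁.cocomplex ⟶ (G'₂.mapHomologicalComplex _).obj J₂.cocomplex) :
    κ e₁₂ q I J₂ (ũ₁ ≫ (G'₁.mapHomologicalComplex _).map ũ₂ ≫
        (NatTrans.mapHomologicalComplex γ'.hom _).app J₂.cocomplex) =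
      κ e₁ q I J₁ ũ₁ ≫ G₁.map (κ e₂ q J₁ J₂ ũ₂) ≫
        γ.hom.app ((Φ''.rightDerived q).obj M₂) := by
  -- the cochain-level identity
  have hc : (Φ.mapHomologicalComplex _).map (ũ₁ ≫ (G'₁.mapHomologicalComplex _).map ũ₂ ≫
        (NatTrans.mapHomologicalComplex γ'.hom _).app J₂.cocomplex) ≫
      (NatTrans.mapHomologicalComplex e₁₂.hom _).app J₂.cocomplex =
      (Φ.mapHomologicalComplex _).map ũ₁ ≫
        (NatTrans.mapHomologicalComplex e₁.hom _).app J₁.cocomplex ≫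
        (G₁.mapHomologicalComplex _).map ((Φ'.mapHomologicalComplex _).map ũ₂) ≫
        (G₁.mapHomologicalComplex _).map
          ((NatTrans.mapHomologicalComplex e₂.hom _).app J₂.cocomplex) ≫
        (NatTrans.mapHomologicalComplex γ.hom _).app
          ((Φ''.mapHomologicalComplex _).obj J₂.cocomplex) := by
    ext n
    have nat : Φ.map (G'₁.map (ũ₂.f n)) ≫ e₁.hom.app (G'₂.obj (J₂.cocomplex.X n)) =
        e₁.hom.app (J₁.cocomplex.X n) ≫ G₁.map (Φ'.map (ũ₂.f n)) := e₁.hom.naturality (ũ₂.f n)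
    simp only [comp_f, Functor.mapHomologicalComplex_map_f, NatTrans.mapHomologicalComplex_app_f,
      Functor.map_comp, Category.assoc]
    rw [hcoh, reassoc_of% nat]
    rfl
  -- the homological steps
  have s1 := homologyMap_homologyComparison G₁ ((Φ'.mapHomologicalComplex _).map ũ₂) q
  have s2 := homologyMap_homologyComparison G₁
    (K := (Φ'.mapHomologicalComplex _).obj ((G'₂.mapHomologicalComplex _).obj J₂.cocomplex))
    (K' := (G₂.mapHomologicalComplex _).obj ((Φ''.mapHomologicalComplex _).obj J₂.cocomplex))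
    ((NatTrans.mapHomologicalComplex e₂.hom _).app J₂.cocomplex) q
  have s3 := homologyComparison_comp G₂ G₁ ((Φ''.mapHomologicalComplex _).obj J₂.cocomplex) q
  have s4 := homologyMap_app_homologyComparison γ.hom
    ((Φ''.mapHomologicalComplex _).obj J₂.cocomplex) q
  have s5 := γ.hom.naturality ((J₂.isoRightDerivedObj Φ'' q).inv)
  simp only [Functor.comp_obj, Functor.comp_map] at s5
  have hL : κ e₁₂ q I J₂ (ũ₁ ≫ (G'₁.mapHomologicalComplex _).map ũ₂ ≫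
        (NatTrans.mapHomologicalComplex γ'.hom _).app J₂.cocomplex) =
      (I.isoRightDerivedObj Φ q).hom ≫
        homologyMap ((Φ.mapHomologicalComplex _).map ũ₁ ≫
          (NatTrans.mapHomologicalComplex e₁.hom _).app J₁.cocomplex ≫
          (G₁.mapHomologicalComplex _).map ((Φ'.mapHomologicalComplex _).map ũ₂) ≫
          (G₁.mapHomologicalComplex _).map
            ((NatTrans.mapHomologicalComplex e₂.hom _).app J₂.cocomplex) ≫
          (NatTrans.mapHomologicalComplex γ.hom _).app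
            ((Φ''.mapHomologicalComplex _).obj J₂.cocomplex)) q ≫
        homologyComparison G₁₂ ((Φ''.mapHomologicalComplex _).obj J₂.cocomplex) q ≫
        G₁₂.map ((J₂.isoRightDerivedObj Φ'' q).inv) := by
    simp only [κ]
    rw [← homologyMap_comp_assoc, hc]
  rw [hL]
  simp only [κ, Functor.map_comp, Category.assoc, homologyMap_comp]
  rw [← G₁.map_comp_assoc, Iso.inv_hom_id, G₁.map_id, Category.id_comp, s5,
    reassoc_of% s4, s3]
  simp only [Category.assoc]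
  rw [reassoc_of% s2, reassoc_of% s1]
  rfl

include hcoh in
/-- **pasting of the adjoint base change morphisms in degree `q`** (abstract form) -/
theorem β_paste (q : ℕ) {F : 𝒜} {M₁ : 𝒜'} {M₂ : 𝒜''} (u₁ : F ⟶ G'₁.obj M₁)
    (u₂ : M₁ ⟶ G'₂.obj M₂) :
    (Φ.rightDerived q).map (u₁ ≫ G'₁.map u₂ ≫ γ'.hom.app M₂) ≫ β Φ Φ'' G'₁₂ G₁₂ e₁₂ q M₂ =
      (Φ.rightDerived q).map u₁ ≫ β Φ Φ' G'₁ G₁ e₁ q M₁ ≫
        G₁.map ((Φ'.rightDerived q).map u₂ ≫ β Φ' Φ'' G'₂ G₂ e₂ q M₂) ≫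
        γ.hom.app ((Φ''.rightDerived q).obj M₂) := by
  let I := injectiveResolution F
  let J₁ := injectiveResolution M₁
  let J₂ := injectiveResolution M₂
  have h₁ := map_β_eq_κ e₁ q u₁ I J₁ (lift u₁ I J₁) (ι_lift u₁ I J₁)
  have h₂ := map_β_eq_κ e₂ q u₂ J₁ J₂ (lift u₂ J₁ J₂) (ι_lift u₂ J₁ J₂)
  have h₁₂ := map_β_eq_κ e₁₂ q (u₁ ≫ G'₁.map u₂ ≫ γ'.hom.app M₂) I J₂
    (lift u₁ I J₁ ≫ (G'₁.mapHomologicalComplex _).map (lift u₂ J₁ J₂) ≫
      (NatTrans.mapHomologicalComplex γ'.hom _).app J₂.cocomplex) (by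
    have n := γ'.hom.naturality (J₂.ι.f 0)
    simp only [Functor.comp_obj, Functor.comp_map] at n
    simp only [comp_f, Functor.mapHomologicalComplex_map_f,
      NatTrans.mapHomologicalComplex_app_f]
    rw [reassoc_of% (ι_lift u₁ I J₁), ← G'₁.map_comp_assoc, ι_lift u₂ J₁ J₂, G'₁.map_comp,
      Category.assoc, Category.assoc]
    erw [n]
    simp only [Category.assoc]
    rfl)
  rw [h₁₂, ← Category.assoc ((Φ.rightDerived q).map u₁), h₁, h₂]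
  exact κ_paste e₁ e₂ e₁₂ γ' γ hcoh q I J₁ J₂ _ _

end Groth.Agent.Lib.Helper23.BCQ
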